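set_option autoImplicit false
namespace Cfsg.Agent.Lib.Helper6.TCD.Fi22U4
noncomputable def NH (i : Nat) : Nat := Nat.land (Nat.shiftRight 0x190000000003200000000064000000000c800000000190000000003200000000064000000000c800000000190000000003200000 (Nat.mul 43 (Nat.land i 1023))) 8796093022207
end Cfsg.Agent.Lib.Helper6.TCD.Fi22U4
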