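set_option autoImplicit false
namespace Cfsg.Agent.Lib.Helper6.TCD.Fi22U4
noncomputable def SH (i : Nat) : Nat := Nat.land (Nat.shiftRight 0x188000480002d00008000060000120000bc00024000170000480002b00008000058000120000a00001c00015000040000290000800004c0000e0000940001c0001380004000023000060000480000e000074000100001080003000020000060000440000e000078000140000c0000180001b000050000340000a000064000140000f8000300001c0000600002c00008000054000100000a000020000130000300002e0000a0000440000c000080000180000f000020000240000800003400008000060000100000a0000100001c0000600002c000080000400000800005000000000120000400001c000040000300000800003000000000080000200000800000000008000000000000000 (Nat.mul 43 (Nat.land i 1023))) 8796093022207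
end Cfsg.Agent.Lib.Helper6.TCD.Fi22U4
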